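import Mathlib

/-!
Units of a split torus over an integral scheme.
-/

set_option autoImplicit false

universe u

open CategoryTheory CategoryTheory.Limits AlgebraicGeometry Opposite TopologicalSpace

noncomputable section

namespace Groth.UnitsTorus

/-- A unit of a monoid algebra of a group with two unique sums over a domain is a monomial. -/
theorem exists_single_of_isUnit {A : Type*} [CommRing A] [IsDomain A] {G : Type*} [AddCommGroup G]
    [TwoUniqueSums G] (f : AddMonoidAlgebra A G) (hf : IsUnit f) :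
    ∃ (e : G) (a : A), IsUnit a ∧ f = AddMonoidAlgebra.single e a := by
  classical
  obtain ⟨g, hfg⟩ := hf.exists_right_inv
  have hle : ¬ 1 < f.coeff.support.card * g.coeff.support.card := by
    intro h
    obtain ⟨p1, hp1, p2, hp2, hne, hu1, hu2⟩ := TwoUniqueSums.uniqueAdd_of_one_lt_card h
    rw [Finset.mem_product] at hp1 hp2
    have hz : ∀ p : G × G, p.1 ∈ f.coeff.support → p.2 ∈ g.coeff.support →
        UniqueAdd f.coeff.support g.coeff.support p.1 p.2 → p.1 + p.2 = 0 := by
      intro p h1 h2 hu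
      by_contra h0
      have := AddMonoidAlgebra.coeff_mul_add_of_uniqueAdd hu
      rw [hfg] at this
      rw [Finsupp.mem_support_iff] at h1 h2
      rw [AddMonoidAlgebra.one_def, AddMonoidAlgebra.coeff_single, Finsupp.single_eq_of_ne h0] at this
      exact mul_ne_zero h1 h2 this.symm
    refine hne ?_
    obtain ⟨ha, hb⟩ := hu1 hp2.1 hp2.2 ((hz p2 hp2.1 hp2.2 hu2).trans (hz p1 hp1.1 hp1.2 hu1).symm)
    exact Prod.ext ha.symm hb.symm
  have hf0 : f ≠ 0 := fun h => by rw [h, zero_mul] at hfg; exact zero_ne_one hfg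
  have hg0 : g ≠ 0 := fun h => by rw [h, mul_zero] at hfg; exact zero_ne_one hfg
  have h1 : f.coeff.support.card ≠ 0 := by
    simpa [Finset.card_eq_zero, Finsupp.support_eq_empty] using fun h => hf0 (AddMonoidAlgebra.ext h)
  have h2 : g.coeff.support.card ≠ 0 := by
    simpa [Finset.card_eq_zero, Finsupp.support_eq_empty] using fun h => hg0 (AddMonoidAlgebra.ext h)
  have hf1 : f.coeff.support.card = 1 := by
    have : f.coeff.support.card * g.coeff.support.card = 1 := by
      have := Nat.mul_ne_zero h1 h2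
      omega
    exact Nat.eq_one_of_mul_eq_one_right this
  obtain ⟨e, a, -, he⟩ := Finsupp.card_support_eq_one'.mp hf1
  have hfe : f = AddMonoidAlgebra.single e a := AddMonoidAlgebra.ext (he.trans (AddMonoidAlgebra.coeff_single e a).symm)
  refine ⟨e, a, ?_, hfe⟩
  have haug := hf.map (AddMonoidAlgebra.lift A A G 1).toRingHom
  rw [hfe] at haug
  simpa using haug

/-- `ℤ[G]` in universe `u`. -/
abbrev R (G : Type) [AddCommMonoid G] : CommRingCat.{u} :=
  CommRingCat.of (ULift.{u} (AddMonoidAlgebra ℤ G))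

/-- `A[G]`. -/
abbrev AG (A : CommRingCat.{u}) (G : Type) [AddCommMonoid G] : CommRingCat.{u} :=
  CommRingCat.of (AddMonoidAlgebra A G)

variable (G : Type) [AddCommGroup G]

/-- constants -/
def cst (A : CommRingCat.{u}) : A ⟶ AG A G := CommRingCat.ofHom AddMonoidAlgebra.singleZeroRingHom

/-- coefficients -/
def coef (A : CommRingCat.{u}) : R G ⟶ AG A G :=
  CommRingCat.ofHom ((AddMonoidAlgebra.mapRingHom G (Int.castRingHom A)).comp ULift.ringEquiv.toRingHom)

theorem isPushout_cst_coef (A : CommRingCat.{u}) :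
    IsPushout (CommRingCat.ofHom ((Int.castRingHom A).comp ULift.ringEquiv.toRingHom) : CommRingCat.of (ULift.{u} ℤ) ⟶ A)
      (CommRingCat.ofHom ((Int.castRingHom (R G)).comp ULift.ringEquiv.toRingHom)) (cst G A) (coef G A) := by
  have hz : ∀ {Q : CommRingCat.{u}} (f g : CommRingCat.of (ULift.{u} ℤ) ⟶ Q), f = g := fun f g =>
    CommRingCat.hom_ext (RingHom.ext fun x => by
      have := RingHom.congr_fun (RingHom.ext_int (f.hom.comp (ULift.ringEquiv.symm : ℤ ≃+* ULift.{u} ℤ).toRingHom)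
        (g.hom.comp (ULift.ringEquiv.symm : ℤ ≃+* ULift.{u} ℤ).toRingHom)) x.down
      exact this)
  refine IsPushout.of_isColimit' ⟨hz _ _⟩ (PushoutCocone.IsColimit.mk _
    (fun s => CommRingCat.ofHom
      (AddMonoidAlgebra.liftNCRingHom s.inl.hom
        ((s.inr.hom.comp (ULift.ringEquiv.symm : AddMonoidAlgebra ℤ G ≃+* R G).toRingHom).toMonoidHom.comp
          (AddMonoidAlgebra.of ℤ G)) fun x y => Commute.all _ _)) (fun s => ?_) (fun s => ?_) fun s m h1 h2 => ?_)
  · ext x
    simp [cst]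
    rw [← AddMonoidAlgebra.one_def, map_one, map_one, mul_one]
  · refine CommRingCat.hom_ext ?_
    have : ∀ f g : R G →+* (s.pt : CommRingCat.{u}),
        f.comp (ULift.ringEquiv.symm : AddMonoidAlgebra ℤ G ≃+* R G).toRingHom =
          g.comp (ULift.ringEquiv.symm : AddMonoidAlgebra ℤ G ≃+* R G).toRingHom → f = g := fun f g h =>
      RingHom.ext fun x => RingHom.congr_fun h x.down
    refine this _ _ (AddMonoidAlgebra.ringHom_ext (fun r => ?_) fun m => ?_)
    · exact RingHom.congr_fun (RingHom.ext_int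
        ((_ : R G →+* _).comp ((ULift.ringEquiv.symm : AddMonoidAlgebra ℤ G ≃+* R G).toRingHom.comp AddMonoidAlgebra.singleZeroRingHom))
        ((_ : R G →+* _).comp ((ULift.ringEquiv.symm : AddMonoidAlgebra ℤ G ≃+* R G).toRingHom.comp AddMonoidAlgebra.singleZeroRingHom))) r
    · simp [coef]
  · refine CommRingCat.hom_ext (AddMonoidAlgebra.ringHom_ext (fun r => ?_) fun m' => ?_)
    · have := congr($(h1).hom r)
      simp [cst] at this ⊢
      rw [← AddMonoidAlgebra.one_def, map_one, map_one, mul_one]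
      exact this
    · have h3 : m.hom (AddMonoidAlgebra.mapRingHom G (Int.castRingHom A) (AddMonoidAlgebra.single m' 1)) =
          s.inr.hom (ULift.up (AddMonoidAlgebra.single m' 1)) := congr($(h2).hom (ULift.up (AddMonoidAlgebra.single m' 1)))
      rw [AddMonoidAlgebra.mapRingHom_single, map_one] at h3
      simp
      exact h3

variable (X : Scheme.{u})

/-- The torus over `X`. -/
abbrev P : Scheme.{u} := X ⨯ Spec (R G)

/-- chart -/
def ψ {U : X.Opens} (hU : IsAffineOpen U) : Spec (AG Γ(X, U) G) ⟶ P G X :=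
  prod.lift (Spec.map (cst G _) ≫ hU.fromSpec) (Spec.map (coef G _))

theorem isPullback_ψ {U : X.Opens} (hU : IsAffineOpen U) :
    IsPullback (ψ G X hU) (Spec.map (cst G _)) prod.fst hU.fromSpec := by
  refine IsPullback.of_right (h₁₂ := prod.snd) (v₁₃ := specULiftZIsTerminal.from (Spec (R G)))
    (h₂₂ := specULiftZIsTerminal.from X) ?_ (prod.lift_fst _ _) ?_
  · rw [specULiftZIsTerminal.hom_ext (hU.fromSpec ≫ specULiftZIsTerminal.from X)
      (Spec.map (CommRingCat.ofHom ((Int.castRingHom Γ(X, U)).comp ULift.ringEquiv.toRingHom))),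
      specULiftZIsTerminal.hom_ext (specULiftZIsTerminal.from (Spec (R G)))
      (Spec.map (CommRingCat.ofHom ((Int.castRingHom (R G)).comp ULift.ringEquiv.toRingHom)))]
    rw [show ψ G X hU ≫ prod.snd = Spec.map (coef G _) from prod.lift_snd _ _]
    exact (isPullback_SpecMap_of_isPushout _ _ _ _ (isPushout_cst_coef G Γ(X, U))).flip
  · exact (IsPullback.of_is_product' (prodIsProd X (Spec (R G))) specULiftZIsTerminal).flip

instance isOpenImmersion_ψ {U : X.Opens} (hU : IsAffineOpen U) : IsOpenImmersion (ψ G X hU) :=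
  MorphismProperty.of_isPullback (P := @IsOpenImmersion) (isPullback_ψ G X hU).flip inferInstance

/-- the restriction of a global section to a chart -/
def res {U : X.Opens} (hU : IsAffineOpen U) : Γ(P G X, ⊤) ⟶ AG Γ(X, U) G :=
  (ψ G X hU).appTop ≫ (Scheme.ΓSpecIso _).hom

theorem fromSpec_res {U : X.Opens} (hU : IsAffineOpen U) :
    hU.fromSpec.appTop ≫ (Scheme.ΓSpecIso _).hom = X.presheaf.map (homOfLE le_top).op := by
  rw [Scheme.Hom.appTop, hU.fromSpec_app_of_le ⊤ le_top]
  simp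

theorem res_map {U V : X.Opens} (hU : IsAffineOpen U) (hV : IsAffineOpen V) (h : V ≤ U) :
    res G X hV = res G X hU ≫ CommRingCat.ofHom (AddMonoidAlgebra.mapRingHom G (X.presheaf.map (homOfLE h).op).hom) := by
  have hc : cst G Γ(X, U) ≫ CommRingCat.ofHom (AddMonoidAlgebra.mapRingHom G (X.presheaf.map (homOfLE h).op).hom) =
      X.presheaf.map (homOfLE h).op ≫ cst G Γ(X, V) := by
    ext x; simp [cst]
  have hd : coef G Γ(X, U) ≫ CommRingCat.ofHom (AddMonoidAlgebra.mapRingHom G (X.presheaf.map (homOfLE h).op).hom) =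
      coef G Γ(X, V) := by
    refine CommRingCat.hom_ext (RingHom.ext fun x => ?_)
    simp only [coef, CommRingCat.hom_comp, CommRingCat.hom_ofHom, RingHom.comp_apply]
    refine (RingHom.congr_fun (AddMonoidAlgebra.ringHom_ext
      (f := (AddMonoidAlgebra.mapRingHom G (X.presheaf.map (homOfLE h).op).hom).comp (AddMonoidAlgebra.mapRingHom G (Int.castRingHom Γ(X, U))))
      (g := AddMonoidAlgebra.mapRingHom G (Int.castRingHom Γ(X, V))) (fun r => ?_) (fun m => ?_)) _)
    · simp
    · simp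
  have hψ : Spec.map (CommRingCat.ofHom (AddMonoidAlgebra.mapRingHom G (X.presheaf.map (homOfLE h).op).hom)) ≫
      ψ G X hU = ψ G X hV := by
    refine Limits.prod.hom_ext ?_ ?_
    · simp only [ψ, Category.assoc, prod.lift_fst, ← Spec.map_comp_assoc, hc]
      rw [Spec.map_comp_assoc, hU.map_fromSpec hV]
    · simp only [ψ, Category.assoc, prod.lift_snd, ← Spec.map_comp, hd]
  rw [res, res, ← hψ, Scheme.Hom.comp_appTop, Category.assoc, Category.assoc, Scheme.ΓSpecIso_naturality]

theorem res_fst {U : X.Opens} (hU : IsAffineOpen U) (a : Γ(X, ⊤)) :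
    res G X hU ((prod.fst : P G X ⟶ X).appTop a) =
      AddMonoidAlgebra.single 0 (X.presheaf.map (homOfLE le_top).op a) := by
  have : (prod.fst : P G X ⟶ X).appTop ≫ res G X hU = X.presheaf.map (homOfLE le_top).op ≫ cst G _ := by
    rw [res, ← Category.assoc, ← Scheme.Hom.comp_appTop, show ψ G X hU ≫ prod.fst = _ from prod.lift_fst _ _,
      Scheme.Hom.comp_appTop, Category.assoc, Scheme.ΓSpecIso_naturality, ← Category.assoc, fromSpec_res]
  exact congr($(this).hom a)

theorem res_snd {U : X.Opens} (hU : IsAffineOpen U) (e : G) :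
    res G X hU ((prod.snd : P G X ⟶ Spec (R G)).appTop
      ((Scheme.ΓSpecIso (R G)).inv (ULift.up (AddMonoidAlgebra.single e 1)))) =
      AddMonoidAlgebra.single e 1 := by
  have : (Scheme.ΓSpecIso (R G)).inv ≫ (prod.snd : P G X ⟶ Spec (R G)).appTop ≫ res G X hU = coef G _ := by
    rw [res, ← Category.assoc _ (ψ G X hU).appTop, ← Scheme.Hom.comp_appTop,
      show ψ G X hU ≫ prod.snd = _ from prod.lift_snd _ _, Scheme.ΓSpecIso_naturality, Iso.inv_hom_id_assoc]
  refine (congr($(this).hom (ULift.up (AddMonoidAlgebra.single e 1)))).trans ?_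
  change AddMonoidAlgebra.mapRingHom G (Int.castRingHom Γ(X, U)) (AddMonoidAlgebra.single e 1) = _
  simp

theorem ext_res {v w : Γ(P G X, ⊤)} (h : ∀ (U : X.Opens) (hU : IsAffineOpen U), Nonempty U → res G X hU v = res G X hU w) :
    v = w := by
  have hex : ∀ z : P G X, ∃ (U : X.Opens) (hU : IsAffineOpen U), z ∈ Set.range (ψ G X hU) ∧ Nonempty U := by
    intro z
    obtain ⟨_, ⟨U, hU, rfl⟩, hz, -⟩ :=
      X.isBasis_affineOpens.exists_subset_of_mem_open (Set.mem_univ ((prod.fst : P G X ⟶ X) z)) isOpen_univ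
    refine ⟨U, hU, ?_, ⟨⟨_, hz⟩⟩⟩
    rw [← (isPullback_ψ G X hU).isoPullback_hom_fst, Scheme.Hom.comp_base, TopCat.coe_comp,
      Function.Surjective.range_comp (show Function.Surjective ⇑(isPullback_ψ G X hU).isoPullback.hom from (isPullback_ψ G X hU).isoPullback.hom.homeomorph.surjective),
      Scheme.Pullback.range_fst, hU.range_fromSpec]
    exact hz
  choose U hU hz hne using hex
  refine Scheme.OpenCover.ext_elem v w (Scheme.Cover.mkOfCovers (P := @IsOpenImmersion) (↥(P G X))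
    (fun z => Spec (AG Γ(X, U z) G)) (fun z => ψ G X (hU z)) (fun z => ⟨z, hz z⟩) fun z => inferInstance) fun z => ?_
  exact ((ConcreteCategory.isIso_iff_bijective (Scheme.ΓSpecIso (AG Γ(X, U z) G)).hom).1 inferInstance).1
    (h (U z) (hU z) (hne z))

variable [IsIntegral X] [TwoUniqueSums G]

theorem existsUnique_unit (v : Γ(P G X, ⊤)) (hv : IsUnit v) :
    ∃! p : (Γ(X, ⊤))ˣ × G, v = (prod.fst : P G X ⟶ X).appTop (p.1 : Γ(X, ⊤)) *
      (prod.snd : P G X ⟶ Spec (R G)).appTop ((Scheme.ΓSpecIso (R G)).inv (ULift.up (AddMonoidAlgebra.single p.2 1))) := by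
  have hres : ∀ (p : (Γ(X, ⊤))ˣ × G) (U : X.Opens) (hU : IsAffineOpen U),
      res G X hU ((prod.fst : P G X ⟶ X).appTop (p.1 : Γ(X, ⊤)) * (prod.snd : P G X ⟶ Spec (R G)).appTop
        ((Scheme.ΓSpecIso (R G)).inv (ULift.up (AddMonoidAlgebra.single p.2 1)))) =
      AddMonoidAlgebra.single p.2 (X.presheaf.map (homOfLE le_top).op (p.1 : Γ(X, ⊤))) := by
    intro p U hU
    rw [map_mul, res_fst, res_snd, AddMonoidAlgebra.single_mul_single, zero_add, mul_one]
  have hloc : ∀ U : {U : X.Opens // IsAffineOpen U ∧ Nonempty U}, ∃ (e : G) (a : Γ(X, U.1)),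
      IsUnit a ∧ res G X U.2.1 v = AddMonoidAlgebra.single e a := by
    intro U
    haveI := U.2.2
    exact exists_single_of_isUnit _ (hv.map _)
  choose e a ha hea using hloc
  have hmono : ∀ U V : {U : X.Opens // IsAffineOpen U ∧ Nonempty U}, (h : V.1 ≤ U.1) →
      e V = e U ∧ a V = X.presheaf.map (homOfLE h).op (a U) := by
    intro U V h
    haveI := V.2.2
    have h1 := hea V
    rw [res_map G X U.2.1 V.2.1 h] at h1
    simp only [CommRingCat.hom_comp, RingHom.comp_apply, CommRingCat.hom_ofHom] at h1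
    erw [hea U] at h1
    rw [AddMonoidAlgebra.mapRingHom_single] at h1
    have h2 := congrArg AddMonoidAlgebra.coeff h1
    rw [AddMonoidAlgebra.coeff_single, AddMonoidAlgebra.coeff_single] at h2
    rcases (Finsupp.single_eq_single_iff _ _ _ _).1 h2 with ⟨h3, h4⟩ | ⟨h3, h4⟩
    · exact ⟨h3.symm, h4.symm⟩
    · exact absurd h4 ((ha V).ne_zero)
  have hsmall : ∀ W : X.Opens, Nonempty W → ∃ V : {U : X.Opens // IsAffineOpen U ∧ Nonempty U}, V.1 ≤ W := by
    rintro W ⟨⟨x, hx⟩⟩
    obtain ⟨_, ⟨V, hV, rfl⟩, hxV, hVW⟩ := X.isBasis_affineOpens.exists_subset_of_mem_open hx W.2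
    exact ⟨⟨V, hV, ⟨⟨x, hxV⟩⟩⟩, hVW⟩
  have hinter : ∀ U V : {U : X.Opens // IsAffineOpen U ∧ Nonempty U}, Nonempty (U.1 ⊓ V.1 : X.Opens) := by
    intro U V
    obtain ⟨⟨x, hx⟩⟩ := U.2.2
    obtain ⟨⟨y, hy⟩⟩ := V.2.2
    obtain ⟨z, hz⟩ := nonempty_preirreducible_inter U.1.2 V.1.2 ⟨x, hx⟩ ⟨y, hy⟩
    exact ⟨⟨z, hz⟩⟩
  have hconst : ∀ U V, e U = e V := by
    intro U V
    obtain ⟨W, hW⟩ := hsmall _ (hinter U V)
    exact ((hmono U W (hW.trans inf_le_left)).1.symm).trans (hmono V W (hW.trans inf_le_right)).1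
  have hcov : (⊤ : X.Opens) ≤ ⨆ U : {U : X.Opens // IsAffineOpen U ∧ Nonempty U}, U.1 := by
    intro x _
    obtain ⟨_, ⟨U, hU, rfl⟩, hx, -⟩ := X.isBasis_affineOpens.exists_subset_of_mem_open (Set.mem_univ x) isOpen_univ
    exact Opens.mem_iSup.mpr ⟨⟨U, hU, ⟨⟨x, hx⟩⟩⟩, hx⟩
  obtain ⟨b, hb, -⟩ := X.sheaf.existsUnique_gluing' (fun U : {U : X.Opens // IsAffineOpen U ∧ Nonempty U} => U.1) ⊤
    (fun U => homOfLE le_top) hcov a (by
      intro U V
      obtain ⟨W, hW⟩ := hsmall _ (hinter U V)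
      haveI := W.2.2
      refine map_injective_of_isIntegral (U := W.1) X (homOfLE hW) ?_
      change X.presheaf.map _ (X.presheaf.map _ (a U)) = X.presheaf.map _ (X.presheaf.map _ (a V))
      rw [← ConcreteCategory.comp_apply, ← ConcreteCategory.comp_apply, ← Functor.map_comp, ← Functor.map_comp]
      exact ((hmono U W (hW.trans inf_le_left)).2.symm).trans (hmono V W (hW.trans inf_le_right)).2)
  have hbu : IsUnit b := by
    refine X.toRingedSpace.isUnit_of_isUnit_germ ⊤ b fun x hx => ?_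
    obtain ⟨U, hxU⟩ := Opens.mem_iSup.mp (hcov hx)
    have h1 : X.presheaf.germ U.1 x hxU (a U) = X.presheaf.germ ⊤ x hx b := by
      rw [← hb U]
      exact X.presheaf.germ_res_apply _ _ _ _
    erw [← h1]
    exact (ha U).map _
  obtain ⟨x₀⟩ : Nonempty X := inferInstance
  obtain ⟨U₀, -⟩ := hsmall ⊤ ⟨⟨x₀, trivial⟩⟩
  refine ⟨(hbu.unit, e U₀), ?_, ?_⟩
  · refine ext_res G X fun U hU hne => ?_
    rw [hres, hea ⟨U, hU, hne⟩, hconst ⟨U, hU, hne⟩ U₀]
    exact congrArg (AddMonoidAlgebra.single (e U₀)) (hb ⟨U, hU, hne⟩).symm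
  · rintro ⟨c, e'⟩ hce
    have h1 : ∀ U : {U : X.Opens // IsAffineOpen U ∧ Nonempty U},
        e U = e' ∧ a U = X.presheaf.map (homOfLE le_top).op (c : Γ(X, ⊤)) := by
      intro U
      haveI := U.2.2
      have h2 := (hea U).symm.trans ((congrArg (res G X U.2.1) hce).trans (hres (c, e') U.1 U.2.1))
      have h3 := congrArg AddMonoidAlgebra.coeff h2
      rw [AddMonoidAlgebra.coeff_single, AddMonoidAlgebra.coeff_single] at h3
      rcases (Finsupp.single_eq_single_iff _ _ _ _).1 h3 with ⟨h4, h5⟩ | ⟨h4, -⟩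
      · exact ⟨h4, h5⟩
      · exact absurd h4 ((ha U).ne_zero)
    refine Prod.ext (Units.ext ?_) (h1 U₀).1.symm
    refine X.sheaf.eq_of_locally_eq' (fun U : {U : X.Opens // IsAffineOpen U ∧ Nonempty U} => U.1) ⊤
      (fun U => homOfLE le_top) hcov _ _ fun U => ?_
    exact (h1 U).2.symm.trans (hb U).symm

end Groth.UnitsTorus
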